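import Cfsg.Agent.M12Count.Defs
import Cfsg.Agent.S3344
import Cfsg.Agent.PGroup.Extraspecial
import Cfsg.Agent.LocalP.Basic
import Cfsg.Agent.Constrained.Basic
import Mathlib.GroupTheory.FixedPointFree

/-!
The centraliser of `c` has extraspecial `O₂` in which `c` is not weakly closed, so the group is
`M₁₂` by the centraliser theorem.
-/

set_option autoImplicit false
set_option linter.style.haveILetI false

namespace CfsgLib.M12Count.CentExtra

open scoped commutatorElement

/-- A set with a map of order dividing three is congruent to its fixed points modulo three. -/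
theorem card_mod_three {α : Type*} [Finite α] (f : α → α) (h3 : ∀ a, f (f (f a)) = a) :
    Nat.card α % 3 = Nat.card {a : α // f a = a} % 3 := by
  classical
  haveI := Fintype.ofFinite α
  haveI := Fact.mk (show Nat.Prime 3 by decide)
  let g : Function.End α := f
  have hg : g ^ 3 ^ 1 = 1 := funext fun a => h3 a
  have := Equiv.Perm.card_fixedPoints_modEq hg
  rw [Nat.card_eq_fintype_card, Nat.card_eq_fintype_card]
  exact this.trans (congrArg (· % 3) (Fintype.card_congr (Equiv.refl _)))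

section FixedPointFree

variable {R : Type*} [Group R] [Finite R]

/-- A group of order 16 with a fixed-point-free automorphism of order three is abelian. -/
theorem comm_sixteen (σ : R ≃* R) (h3 : ∀ r, σ (σ (σ r)) = r) (hfree : ∀ r, σ r = r → r = 1)
    (hR : Nat.card R = 16) (a b : R) : a * b = b * a := by
  classical
  set Z := Subgroup.center R
  have hff : MonoidHom.FixedPointFree σ := hfree
  have hit : (⇑σ)^[3] = id := funext h3
  have hprod : ∀ y : R, y * σ y * σ (σ y) = 1 := fun y => by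
    simpa [List.range_succ, mul_assoc] using hff.prod_pow_eq_one hit y
  have hcomm : ∀ y : R, y * σ y = σ y * y := fun y => by
    have h1 := eq_inv_of_mul_eq_one_right (hprod y)
    have h2 := eq_inv_of_mul_eq_one_right (hprod y⁻¹)
    simp only [map_inv, mul_inv_rev, inv_inv] at h1 h2
    rw [h1, mul_inv_rev, inv_inv, inv_inv] at h2
    exact h2
  have hZσ : ∀ z ∈ Z, σ z ∈ Z := fun z hz => Subgroup.mem_center_iff.mpr fun w => by
    obtain ⟨v, rfl⟩ := σ.surjective w
    rw [← map_mul, ← map_mul, Subgroup.mem_center_iff.mp hz v]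
  have hlift : ∀ y : R, y⁻¹ * σ y ∈ Z → y ∈ Z := by
    intro y hy
    have hinj : Function.Injective fun z : Z => (⟨(z : R)⁻¹ * σ z,
        Z.mul_mem (Z.inv_mem z.2) (hZσ _ z.2)⟩ : Z) := by
      intro z w e
      have e' : (z : R)⁻¹ * σ z = (w : R)⁻¹ * σ w := congrArg Subtype.val e
      refine Subtype.ext (mul_inv_eq_one.mp (hfree ((z : R) * (w : R)⁻¹) ?_))
      rw [map_mul, map_inv, show σ (z : R) = (z : R) * ((w : R)⁻¹ * σ w) by rw [← e']; group]
      group
    obtain ⟨w, hw⟩ := Finite.surjective_of_injective hinj ⟨_, hy⟩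
    have hw' : (w : R)⁻¹ * σ w = y⁻¹ * σ y := congrArg Subtype.val hw
    have h0 := hfree (y * (w : R)⁻¹) (by
      rw [map_mul, map_inv, show σ y = y * ((w : R)⁻¹ * σ w) by rw [hw']; group]; group)
    rw [mul_inv_eq_one.mp h0]; exact w.2
  by_cases hZ : Z = ⊤
  · exact (Subgroup.mem_center_iff.mp (hZ ▸ Subgroup.mem_top b : b ∈ Z) a)
  exfalso
  obtain ⟨y, -, hy⟩ := SetLike.exists_of_lt (lt_top_iff_ne_top.mpr hZ)
  have hcardZ : 4 ≤ Nat.card Z := by
    have h1 := card_mod_three (fun z : Z => (⟨σ z, hZσ _ z.2⟩ : Z))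
      (fun z => Subtype.ext (h3 z))
    haveI : Subsingleton {z : Z // (⟨σ z, hZσ _ z.2⟩ : Z) = z} := ⟨fun p q => by
      have hp := hfree _ (congrArg Subtype.val p.2)
      have hq := hfree _ (congrArg Subtype.val q.2)
      exact Subtype.ext (Subtype.ext (hp.trans hq.symm))⟩
    haveI : Nonempty {z : Z // (⟨σ z, hZσ _ z.2⟩ : Z) = z} := ⟨⟨1, Subtype.ext (by simp)⟩⟩
    rw [Nat.card_unique (α := {z : Z // (⟨σ z, hZσ _ z.2⟩ : Z) = z})] at h1
    haveI : Nontrivial R := Finite.one_lt_card_iff_nontrivial.mp (by omega)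
    haveI : Fact (Nat.Prime 2) := ⟨Nat.prime_two⟩
    haveI := (IsPGroup.of_card (p := 2) (n := 4) hR).center_nontrivial
    have h2 : 1 < Nat.card Z := Finite.one_lt_card_iff_nontrivial.mpr inferInstance
    omega
  have hsy : σ y ∉ Z := fun h => by
    have h1 := hZσ _ (hZσ _ h)
    rw [h3] at h1
    exact hy h1
  set H := Subgroup.centralizer ({y} : Set R)
  have hyH : y ∈ H := Subgroup.mem_centralizer_singleton_iff.mpr rfl
  have hσH : σ y ∈ H := Subgroup.mem_centralizer_singleton_iff.mpr (hcomm y).symm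
  have hZH : ∀ z ∈ Z, z ∈ H := fun z hz =>
    Subgroup.mem_centralizer_singleton_iff.mpr (Subgroup.mem_center_iff.mp hz y).symm
  have h12 : 12 ≤ Nat.card H := by
    let rep : Fin 3 → H := ![1, ⟨y, hyH⟩, ⟨σ y, hσH⟩]
    have hsep : ∀ i j, ((rep i : R))⁻¹ * rep j ∈ Z → i = j := by
      have e1 : y⁻¹ * σ y ∉ Z := fun h => hy (hlift y h)
      have e2 : (σ y)⁻¹ * y ∉ Z := fun h => e1 (by simpa using Z.inv_mem h)
      intro i j h
      fin_cases i <;> fin_cases j <;>
        first
          | rfl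
          | (exfalso
             simp [rep] at h
             first
               | exact hy h
               | exact hsy h
               | exact e1 h
               | exact e2 h)
    have hinj : Function.Injective fun p : Fin 3 × Z => rep p.1 * ⟨_, hZH _ p.2.2⟩ := by
      rintro ⟨i, z⟩ ⟨j, w⟩ e
      have e' : (rep i : R) * z = rep j * w := congrArg Subtype.val e
      obtain rfl : i = j := hsep i j (by
        rw [show (rep i : R)⁻¹ * rep j = z * (w : R)⁻¹ by
          rw [show (rep j : R) = rep i * z * (w : R)⁻¹ by rw [e']; group]; group]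
        exact Z.mul_mem z.2 (Z.inv_mem w.2))
      exact Prod.ext rfl (Subtype.ext (mul_left_cancel e'))
    have := Nat.card_le_card_of_injective _ hinj
    rw [Nat.card_prod, Nat.card_fin] at this
    omega
  have hH : H = ⊤ := by
    apply Subgroup.eq_top_of_card_eq
    have hd := Subgroup.card_subgroup_dvd_card H
    rw [hR] at hd ⊢
    have hle := Nat.le_of_dvd (by norm_num) hd
    interval_cases (Nat.card H) <;> omega
  exact hy (Subgroup.mem_center_iff.mpr fun w =>
    Subgroup.mem_centralizer_singleton_iff.mp (hH ▸ Subgroup.mem_top w : w ∈ H))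

end FixedPointFree

/-- An abelian group of order eight with an automorphism of order three fixing just `{1, c}` is
elementary abelian. -/
theorem elementary_eight {G : Type*} [Group G] [Finite G] (Z : Subgroup G)
    (hZ8 : Nat.card Z = 8) {c x : G} (hcc : c * c = 1) (hc1 : c ≠ 1) (hcZ : c ∈ Z)
    (hσ : ∀ z ∈ Z, x * z * x⁻¹ ∈ Z) (hcomm : ∀ z ∈ Z, ∀ w ∈ Z, z * w = w * z)
    (hmod : ∀ K : Subgroup G, K ≤ Z → (∀ z ∈ K, x * z * x⁻¹ ∈ K) →
      (c ∈ K → Nat.card K % 3 = 2) ∧ (c ∉ K → Nat.card K % 3 = 1)) :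
    ∀ z ∈ Z, z * z = 1 := by
  classical
  let sq : Z →* G := MonoidHom.mk' (fun z => (z : G) * z) fun z w => by
    have e : (w : G) * z = z * w := hcomm _ w.2 _ z.2
    calc ((z * w : Z) : G) * (z * w : Z) = (z : G) * (w * z) * w := by push_cast; group
      _ = (z : G) * (z * w) * w := by rw [e]
      _ = (z : G) * z * (w * w) := by group
  have hker_mem : ∀ z : Z, z ∈ sq.ker ↔ (z : G) * z = 1 := fun z => MonoidHom.mem_ker
  have hk := Subgroup.card_mul_index sq.ker
  rw [Subgroup.index_ker, hZ8] at hk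
  have hK3 : Nat.card sq.ker % 3 = 2 := by
    have h1 := hmod (sq.ker.map Z.subtype) (Subgroup.map_subtype_le _) (by
      rintro _ ⟨z, hz, rfl⟩
      refine ⟨⟨_, hσ _ z.2⟩, (hker_mem _).mpr ?_, rfl⟩
      show x * (z : G) * x⁻¹ * (x * z * x⁻¹) = 1
      rw [show x * (z : G) * x⁻¹ * (x * z * x⁻¹) = x * (z * z) * x⁻¹ by group,
        (hker_mem z).mp hz]
      group)
    have h2 := h1.1 ⟨⟨c, hcZ⟩, (hker_mem _).mpr hcc, rfl⟩
    rwa [Subgroup.card_map_of_injective Z.subtype_injective] at h2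
  have hd : Nat.card sq.ker ∣ 2 ^ 3 := ⟨_, hk.symm⟩
  obtain ⟨n, hn, e⟩ := (Nat.dvd_prime_pow Nat.prime_two).mp hd
  by_cases h8 : Nat.card sq.ker = 8
  · intro z hz
    have h1 : sq.ker = ⊤ := Subgroup.eq_top_of_card_eq _ (h8.trans hZ8.symm)
    exact (hker_mem ⟨z, hz⟩).mp (h1 ▸ Subgroup.mem_top _)
  exfalso
  have hk2 : Nat.card sq.ker = 2 := by
    rw [e] at hK3 h8 ⊢
    interval_cases n <;> omega
  rw [hk2] at hk
  have hrange : Nat.card sq.range = 4 := by omega
  have hle : sq.range ≤ Z := by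
    rintro _ ⟨z, rfl⟩
    exact Z.mul_mem z.2 z.2
  have h1 := hmod sq.range hle (by
    rintro _ ⟨z, rfl⟩
    refine ⟨⟨_, hσ _ z.2⟩, ?_⟩
    show x * (z : G) * x⁻¹ * (x * z * x⁻¹) = x * ((z : G) * z) * x⁻¹
    group)
  haveI : Fact (Nat.Prime 2) := ⟨Nat.prime_two⟩
  obtain ⟨⟨w, hw⟩, hw2⟩ := exists_prime_orderOf_dvd_card' (G := sq.range) 2 (by rw [hrange]; norm_num)
  rw [Subgroup.orderOf_mk] at hw2
  have hww : w * w = 1 := by rw [← pow_two, ← hw2, pow_orderOf_eq_one]
  obtain ⟨y, -, huniq⟩ := (Nat.card_eq_two_iff' (1 : sq.ker)).mp hk2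
  have a1 := huniq ⟨⟨w, hle hw⟩, (hker_mem _).mpr hww⟩ fun e' => by
    have e'' : w = 1 := congrArg (fun v : sq.ker => ((v : Z) : G)) e'
    rw [e'', orderOf_one] at hw2
    omega
  have a2 := huniq ⟨⟨c, hcZ⟩, (hker_mem _).mpr hcc⟩ fun e' =>
    hc1 (congrArg (fun v : sq.ker => ((v : Z) : G)) e')
  have hwc : w = c := congrArg (fun v : sq.ker => ((v : Z) : G)) (a1.trans a2.symm)
  have h2 := h1.1 (hwc ▸ hw)
  rw [hrange] at h2
  omega

variable {G : Type*} [Group G] [Finite G]

/-- The situation inside the centraliser of `c`. -/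
structure Local (Q T : Subgroup G) (c t x : G) : Prop where
  card_Q : Nat.card Q = 32
  c_ord : orderOf c = 2
  c_mem : c ∈ Q
  c_central : ∀ q ∈ Q, c * q = q * c
  x_cube : x ^ 3 = 1
  x_norm : ∀ q ∈ Q, x * q * x⁻¹ ∈ Q
  x_comm : x * c = c * x
  x_fix : ∀ q ∈ Q, x * q = q * x → q = 1 ∨ q = c
  t_sq : t * t = 1
  t_norm : ∀ q ∈ Q, t * q * t⁻¹ ∈ Q
  card_T : Nat.card T = 16
  t_mem : t ∈ T
  T_comm : ∀ a ∈ T, a * t = t * a
  cent_le : ∀ q ∈ Q, q * t = t * q → q ∈ T
  T_nonab : ∃ a ∈ T, ∃ b ∈ T, a * b ≠ b * a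
  outer : t ∉ Q → ∀ a ∈ T, a ∈ Q ∨ a * t ∈ Q

namespace Local

variable {Q T : Subgroup G} {c t x : G} (h : Local Q T c t x)
include h

omit [Finite G] in
theorem cc : c * c = 1 := by rw [← pow_two, ← h.c_ord, pow_orderOf_eq_one]

omit [Finite G] in
theorem c_ne : c ≠ 1 := fun e => by simpa [e] using h.c_ord

/-- The centre of `Q` has order 2, 8 or 32; in the last two cases `T` would be abelian. -/
theorem card_center : Nat.card (Subgroup.center Q) = 2 := by
  classical
  set Z := (Subgroup.center Q).map Q.subtype with hZdef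
  have hmem : ∀ z, z ∈ Z ↔ z ∈ Q ∧ ∀ q ∈ Q, z * q = q * z := by
    intro z
    constructor
    · rintro ⟨⟨y, hy⟩, hc, rfl⟩
      exact ⟨hy, fun q hq => (congrArg Subtype.val (Subgroup.mem_center_iff.mp hc ⟨q, hq⟩)).symm⟩
    · rintro ⟨hz, hc⟩
      exact ⟨⟨z, hz⟩, Subgroup.mem_center_iff.mpr fun q => Subtype.ext (hc q q.2).symm, rfl⟩
  have hZc : Nat.card Z = Nat.card (Subgroup.center Q) :=
    Subgroup.card_map_of_injective Q.subtype_injective
  rw [← hZc]
  have hσ : ∀ z ∈ Z, x * z * x⁻¹ ∈ Z := fun z hz => by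
    obtain ⟨hzQ, hzc⟩ := (hmem z).mp hz
    refine (hmem _).mpr ⟨h.x_norm z hzQ, fun q hq => ?_⟩
    have hx2 : ∀ p ∈ Q, x⁻¹ * p * x ∈ Q := fun p hp => by
      have := h.x_norm _ (h.x_norm p hp)
      rwa [show x * (x * p * x⁻¹) * x⁻¹ = x ^ 2 * p * (x ^ 2)⁻¹ by rw [pow_two]; group,
        show x ^ 2 = x⁻¹ from eq_inv_of_mul_eq_one_left (by rw [← pow_succ, h.x_cube]), inv_inv]
        at this
    calc x * z * x⁻¹ * q = x * (z * (x⁻¹ * q * x)) * x⁻¹ := by group
      _ = x * ((x⁻¹ * q * x) * z) * x⁻¹ := by rw [hzc _ (hx2 q hq)]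
      _ = q * (x * z * x⁻¹) := by group
  -- invariant subgroups of the centre
  have hmod : ∀ K : Subgroup G, K ≤ Z → (∀ z ∈ K, x * z * x⁻¹ ∈ K) →
      Nat.card K % 3 = (if c ∈ K then 2 else 1) := by
    intro K hK hinv
    have h1 := card_mod_three (fun z : K => (⟨x * z * x⁻¹, hinv _ z.2⟩ : K)) fun z =>
      Subtype.ext (by
        show x * (x * (x * (z : G) * x⁻¹) * x⁻¹) * x⁻¹ = z
        calc x * (x * (x * (z : G) * x⁻¹) * x⁻¹) * x⁻¹ = x ^ 3 * z * (x ^ 3)⁻¹ := by rw [pow_succ, pow_two]; group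
          _ = z := by rw [h.x_cube]; group)
    have hset : ∀ z : K, (⟨x * z * x⁻¹, hinv _ z.2⟩ : K) = z ↔ (z : G) = 1 ∨ (z : G) = c := by
      intro z
      refine ⟨fun e => h.x_fix _ ((hmem _).mp (hK z.2)).1
        (mul_inv_eq_iff_eq_mul.mp (congrArg Subtype.val e)), fun e => Subtype.ext ?_⟩
      show x * (z : G) * x⁻¹ = z
      rcases e with e | e <;> rw [e]
      · simp
      · rw [h.x_comm, mul_inv_cancel_right]
    have h2 : Nat.card {z : K // (⟨x * z * x⁻¹, hinv _ z.2⟩ : K) = z} =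
        if c ∈ K then 2 else 1 := by
      rw [Nat.card_congr (Equiv.subtypeEquivRight hset)]
      split_ifs with hc
      · rw [Nat.card_congr (show {z : K // (z : G) = 1 ∨ (z : G) = c} ≃
          ({1, c} : Set G) from
          { toFun := fun z => ⟨z.1, z.2⟩
            invFun := fun z => ⟨⟨z.1, by
              rcases (z.2 : (z : G) = 1 ∨ (z : G) = c) with e | e <;> rw [e]
              exacts [one_mem _, hc]⟩, z.2⟩
            left_inv := fun z => rfl
            right_inv := fun z => rfl })]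
        exact Set.ncard_pair h.c_ne.symm
      · haveI : Unique {z : K // (z : G) = 1 ∨ (z : G) = c} :=
          ⟨⟨⟨1, Or.inl rfl⟩⟩, fun z => Subtype.ext (Subtype.ext
            (z.2.resolve_right fun e => hc (e ▸ z.1.2)))⟩
        exact Nat.card_unique
    rw [h1, h2]
    split_ifs <;> rfl
  have hcZ : c ∈ Z := (hmem c).mpr ⟨h.c_mem, h.c_central⟩
  have hZ3 := hmod Z le_rfl hσ
  rw [if_pos hcZ] at hZ3
  have hZd : Nat.card Z ∣ 32 := by
    rw [← h.card_Q]; exact Subgroup.card_dvd_of_le fun z hz => ((hmem z).mp hz).1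
  by_contra h2
  have h8 : 8 ≤ Nat.card Z := by
    obtain ⟨n, hn, e⟩ := (Nat.dvd_prime_pow Nat.prime_two).mp
      (show Nat.card Z ∣ 2 ^ 5 by norm_num; exact hZd)
    rw [e] at hZ3 h2 ⊢
    interval_cases n <;> omega
  obtain ⟨a, ha, b, hb, hab⟩ := h.T_nonab
  apply hab
  set A := Q ⊓ T
  by_cases htQ : t ∈ Q
  · -- `C_Q(t)` contains the centre and `t`
    have htZ : t ∉ Z := fun htZ => by
      have hQT : Q ≤ T := fun q hq => h.cent_le q hq (((hmem t).mp htZ).2 q hq).symm
      have := Subgroup.card_dvd_of_le hQT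
      rw [h.card_Q, h.card_T] at this
      norm_num at this
    have hZT : ∀ z ∈ Z, z ∈ T := fun z hz =>
      h.cent_le z ((hmem z).mp hz).1 (((hmem z).mp hz).2 t htQ)
    -- every element of `T` is a central one or `t` times one
    have hall : ∀ d ∈ T, d ∈ Z ∨ t⁻¹ * d ∈ Z := by
      have h16 : Function.Injective fun p : Bool × Z =>
          (⟨if p.1 then t * p.2 else p.2, by
            split_ifs
            exacts [T.mul_mem h.t_mem (hZT _ p.2.2), hZT _ p.2.2]⟩ : T) := by
        rintro ⟨i, z⟩ ⟨j, w⟩ e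
        have e' := congrArg Subtype.val e
        cases i <;> cases j <;> simp at e'
        · exact Prod.ext rfl e'
        · exact absurd (by rw [show t = (z : G) * (w : G)⁻¹ by rw [e']; group]
                           exact Z.mul_mem z.2 (Z.inv_mem w.2)) htZ
        · exact absurd (by rw [show t = (w : G) * (z : G)⁻¹ by rw [← e']; group]
                           exact Z.mul_mem w.2 (Z.inv_mem z.2)) htZ
        · exact Prod.ext rfl e'
      haveI := Fintype.ofFinite Z
      have hsurj := (Function.Injective.bijective_of_nat_card_le h16 (by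
        rw [h.card_T, Nat.card_prod, Nat.card_eq_fintype_card (α := Bool), Fintype.card_bool]
        omega)).2
      intro d hd
      obtain ⟨⟨i, z⟩, e⟩ := hsurj ⟨d, hd⟩
      have e' := congrArg Subtype.val e
      cases i <;> simp at e'
      · exact Or.inl (e' ▸ z.2)
      · exact Or.inr (by rw [← e', inv_mul_cancel_left]; exact z.2)
    have hTQ : ∀ d ∈ T, d ∈ Q := fun d hd => by
      rcases hall d hd with e | e
      · exact ((hmem d).mp e).1
      · simpa using Q.mul_mem htQ ((hmem _).mp e).1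
    rcases hall a ha with e | e
    · exact ((hmem a).mp e).2 b (hTQ b hb)
    · have h1 := ((hmem _).mp e).2 b (hTQ b hb)
      calc a * b = t * (t⁻¹ * a * b) := by group
        _ = t * b * (t⁻¹ * a) := by rw [h1]; group
        _ = b * t * (t⁻¹ * a) := by rw [h.T_comm b hb]
        _ = b * a := by group
  -- `t` outside `Q`: it suffices that `A` is abelian
  suffices hA : ∀ p ∈ A, ∀ q ∈ A, p * q = q * p by
    have key : ∀ d ∈ T, ∃ p ∈ A, d = p ∨ d = p * t := fun d hd => by
      rcases h.outer htQ d hd with e | e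
      · exact ⟨d, ⟨e, hd⟩, Or.inl rfl⟩
      · exact ⟨d * t, ⟨e, T.mul_mem hd h.t_mem⟩, Or.inr (by rw [mul_assoc, h.t_sq, mul_one])⟩
    obtain ⟨p, hp, hp'⟩ := key a ha
    obtain ⟨q, hq, hq'⟩ := key b hb
    have cpq : Commute p q := hA p hp q hq
    have cp : Commute p t := h.T_comm p hp.2
    have cq : Commute q t := h.T_comm q hq.2
    rcases hp' with rfl | rfl <;> rcases hq' with rfl | rfl
    · exact cpq
    · exact cpq.mul_right cp
    · exact cpq.mul_left cq.symm
    · exact (cpq.mul_right cp).mul_left (cq.symm.mul_right (Commute.refl t))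
  by_cases hab' : 32 ≤ Nat.card Z
  · intro p hp q hq
    have hZQ : Z = Q := Subgroup.eq_of_le_of_card_ge (fun z hz => ((hmem z).mp hz).1)
      (by rw [h.card_Q]; exact hab')
    exact ((hmem p).mp (hZQ.symm ▸ hp.1)).2 q hq.1
  have hZ8 : Nat.card Z = 8 := by
    obtain ⟨n, hn, e⟩ := (Nat.dvd_prime_pow Nat.prime_two).mp
      (show Nat.card Z ∣ 2 ^ 5 by norm_num; exact hZd)
    rw [e] at hZ3 h8 hab' ⊢
    interval_cases n <;> omega
  -- the centre is elementary abelian
  have hcomm : ∀ z ∈ Z, ∀ w ∈ Z, z * w = w * z := fun z hz w hw =>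
    ((hmem z).mp hz).2 w ((hmem w).mp hw).1
  have hel := elementary_eight Z hZ8 h.cc h.c_ne hcZ (x := x) hσ hcomm fun K hK hi =>
    ⟨fun hc => (hmod K hK hi).trans (if_pos hc), fun hc => (hmod K hK hi).trans (if_neg hc)⟩
  have ht2 : ∀ z ∈ Z, t * z * t⁻¹ ∈ Z := fun z hz => by
    obtain ⟨hzQ, hzc⟩ := (hmem z).mp hz
    refine (hmem _).mpr ⟨h.t_norm z hzQ, fun q hq => ?_⟩
    have hq' : t⁻¹ * q * t ∈ Q := by
      have := h.t_norm q hq
      rwa [inv_eq_of_mul_eq_one_right h.t_sq] at this ⊢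
    calc t * z * t⁻¹ * q = t * (z * (t⁻¹ * q * t)) * t⁻¹ := by group
      _ = t * ((t⁻¹ * q * t) * z) * t⁻¹ := by rw [hzc _ hq']
      _ = q * (t * z * t⁻¹) := by group
  let f : Z →* Z := MonoidHom.mk' (fun z => z * ⟨_, ht2 _ z.2⟩) fun z w => Subtype.ext (by
    show (z : G) * w * (t * ((z : G) * w) * t⁻¹) = z * (t * z * t⁻¹) * (w * (t * w * t⁻¹))
    have e := hcomm _ w.2 _ (ht2 _ z.2)
    calc (z : G) * w * (t * ((z : G) * w) * t⁻¹)
        = z * (w * (t * z * t⁻¹)) * (t * w * t⁻¹) := by group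
      _ = z * ((t * z * t⁻¹) * w) * (t * w * t⁻¹) := by rw [e]
      _ = _ := by group)
  set D := Z ⊓ T
  have hfd : ∀ z : Z, (z : G) * t = t * z → (z : G) ∈ D := fun z e =>
    ⟨z.2, h.cent_le _ ((hmem _).mp z.2).1 e⟩
  have hfker : ∀ z : Z, f z = 1 → (z : G) ∈ D := fun z hz => hfd z (by
    have e : t * (z : G) * t⁻¹ = z := by
      have h1 : (z : G) * (t * z * t⁻¹) = 1 := congrArg Subtype.val hz
      rw [← inv_eq_of_mul_eq_one_right h1]
      exact inv_eq_of_mul_eq_one_right (hel _ z.2)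
    exact (mul_inv_eq_iff_eq_mul.mp e).symm)
  have hfrange : ∀ z : Z, ((f z : Z) : G) ∈ D := fun z => hfd _ (by
    show (z : G) * (t * z * t⁻¹) * t = t * ((z : G) * (t * z * t⁻¹))
    have e := hcomm _ z.2 _ (ht2 _ z.2)
    calc (z : G) * (t * z * t⁻¹) * t = t * z * t⁻¹ * z * t := by rw [e]
      _ = t * z * t * z * t := by rw [inv_eq_of_mul_eq_one_right h.t_sq]
      _ = t * (z * (t * z * t⁻¹)) * (t * t) := by group
      _ = t * (z * (t * z * t⁻¹)) := by rw [h.t_sq, mul_one])
  have hD : 3 ≤ Nat.card D := by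
    have hk := Subgroup.card_mul_index f.ker
    rw [Subgroup.index_ker, hZ8] at hk
    have h1 : Nat.card f.ker ≤ Nat.card D :=
      Nat.card_le_card_of_injective (fun z => (⟨_, hfker z.1 z.2⟩ : D))
        fun z w e => Subtype.ext (Subtype.ext (congrArg Subtype.val e :))
    have h2 : Nat.card f.range ≤ Nat.card D :=
      Nat.card_le_card_of_injective (fun z => (⟨((z : Z) : G), by
        obtain ⟨w, hw⟩ := z.2
        rw [← hw]; exact hfrange w⟩ : D))
        fun z w e => Subtype.ext (Subtype.ext (congrArg Subtype.val e :))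
    have := Nat.mul_le_mul h1 h2
    by_contra hc'
    interval_cases (Nat.card D) <;> omega
  have hA8 : Nat.card A ≤ 8 := by
    have hd : Nat.card A ∣ 16 := h.card_T ▸ Subgroup.card_dvd_of_le inf_le_right
    by_contra hc'
    have he : A = T := Subgroup.eq_of_le_of_card_ge inf_le_right (by
      rw [h.card_T]
      have := Nat.le_of_dvd (by norm_num) hd
      interval_cases (Nat.card A) <;> omega)
    have htA : t ∈ A := he.symm ▸ h.t_mem
    exact htQ htA.1
  intro p hp q hq
  by_cases hpZ : p ∈ Z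
  · exact ((hmem p).mp hpZ).2 q hq.1
  set K := A ⊓ Subgroup.centralizer ({p} : Set G)
  have hDA : D ≤ A := fun z hz => ⟨((hmem z).mp hz.1).1, hz.2⟩
  have hK : K = A := by
    refine Subgroup.eq_of_le_of_card_ge inf_le_left ?_
    have hsub : ∀ z, z ∈ D ∨ z = p → z ∈ K := by
      rintro z (hz | rfl)
      · exact ⟨hDA hz, Subgroup.mem_centralizer_singleton_iff.mpr
          (((hmem z).mp hz.1).2 p hp.1)⟩
      · exact ⟨hp, Subgroup.mem_centralizer_singleton_iff.mpr rfl⟩
    have hlt : D < K := lt_of_le_of_ne (fun z hz => hsub z (Or.inl hz))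
      fun e => hpZ (show p ∈ D from e ▸ hsub p (Or.inr rfl)).1
    have h1 : Nat.card D < Nat.card K := by
      by_contra hc'
      exact hlt.ne (Subgroup.eq_of_le_of_card_ge hlt.le (not_lt.mp hc'))
    obtain ⟨u, hu⟩ : Nat.card K ∣ Nat.card A :=
      Subgroup.card_dvd_of_le (inf_le_left : K ≤ A)
    obtain ⟨v, hv⟩ : Nat.card D ∣ Nat.card K := Subgroup.card_dvd_of_le hlt.le
    have hA0 : 0 < Nat.card A := Nat.card_pos
    rcases u with _ | _ | u
    · omega
    · omega
    · rcases v with _ | _ | v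
      · omega
      · omega
      · nlinarith
  exact (Subgroup.mem_centralizer_singleton_iff.mp (hK.symm ▸ hq : q ∈ K).2).symm

/-- `Q` is extraspecial. -/
theorem isExtraspecial : Cfsg.IsExtraspecial 2 Q := by
  haveI : Fact (Nat.Prime 2) := ⟨Nat.prime_two⟩
  have hZ := h.card_center
  set K := (Subgroup.zpowers c).subgroupOf Q
  have hK : ∀ q : Q, q ∈ K ↔ (q : G) = 1 ∨ (q : G) = c := by
    intro q
    rw [Subgroup.mem_subgroupOf, Subgroup.mem_zpowers_iff]
    constructor
    · rintro ⟨k, hk⟩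
      rw [← hk]
      rcases Int.even_or_odd k with ⟨j, rfl⟩ | ⟨j, rfl⟩
      · left; rw [← two_mul, zpow_mul, zpow_two, h.cc, one_zpow]
      · right; rw [zpow_add, zpow_mul, zpow_two, h.cc, one_zpow, one_mul, zpow_one]
    · rintro (e | e)
      exacts [⟨0, by rw [zpow_zero, e]⟩, ⟨1, by rw [zpow_one, e]⟩]
  have hKZ : K = Subgroup.center Q := by
    refine Subgroup.eq_of_le_of_card_ge (fun q hq => Subgroup.mem_center_iff.mpr fun p =>
      Subtype.ext ?_) ?_
    · show (p : G) * q = q * p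
      rcases (hK q).mp hq with e | e <;> rw [e]
      · simp
      · exact (h.c_central _ p.2).symm
    · rw [hZ, Nat.card_congr (Subgroup.subgroupOfEquivOfLe
        (Subgroup.zpowers_le.mpr h.c_mem)).toEquiv, Nat.card_zpowers, h.c_ord]
  haveI : K.Normal := hKZ ▸ inferInstance
  have hxinv : ∀ q ∈ Q, x⁻¹ * q * x ∈ Q := fun q hq => by
    have := h.x_norm _ (h.x_norm q hq)
    rwa [show x * (x * q * x⁻¹) * x⁻¹ = x ^ 2 * q * (x ^ 2)⁻¹ by rw [pow_two]; group,
      show x ^ 2 = x⁻¹ from eq_inv_of_mul_eq_one_left (by rw [← pow_succ, h.x_cube]), inv_inv]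
      at this
  let σ : Q ≃* Q :=
    { toFun := fun q => ⟨x * q * x⁻¹, h.x_norm _ q.2⟩
      invFun := fun q => ⟨x⁻¹ * q * x, hxinv _ q.2⟩
      left_inv := fun q => Subtype.ext (by simp [mul_assoc])
      right_inv := fun q => Subtype.ext (by simp [mul_assoc])
      map_mul' := fun p q => Subtype.ext (by simp [mul_assoc]) }
  have hσK : K.map σ.toMonoidHom = K := by
    refine Subgroup.eq_of_le_of_card_ge ?_ (by rw [Subgroup.card_map_of_injective σ.injective])
    rintro _ ⟨q, hq, rfl⟩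
    refine (hK _).mpr ?_
    show x * (q : G) * x⁻¹ = 1 ∨ x * (q : G) * x⁻¹ = c
    rcases (hK q).mp hq with e | e <;> rw [e]
    · exact Or.inl (by simp)
    · exact Or.inr (by rw [h.x_comm, mul_inv_cancel_right])
  let τ := QuotientGroup.congr K K σ hσK
  have hτ : ∀ q : Q, τ (q : Q ⧸ K) = (σ q : Q ⧸ K) := fun q => rfl
  have hR : Nat.card (Q ⧸ K) = 16 := by
    have h1 := Subgroup.card_eq_card_quotient_mul_card_subgroup K
    rw [h.card_Q, hKZ, hZ] at h1
    rw [hKZ]; omega
  have h3 : ∀ r, τ (τ (τ r)) = r := by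
    intro r
    induction r using QuotientGroup.induction_on with
    | _ q =>
      rw [hτ, hτ, hτ]
      refine congrArg _ (Subtype.ext ?_)
      show x * (x * (x * (q : G) * x⁻¹) * x⁻¹) * x⁻¹ = q
      calc x * (x * (x * (q : G) * x⁻¹) * x⁻¹) * x⁻¹ = x ^ 3 * q * (x ^ 3)⁻¹ := by rw [pow_succ, pow_two]; group
        _ = q := by rw [h.x_cube]; group
  have hfree : ∀ r, τ r = r → r = 1 := by
    intro r
    induction r using QuotientGroup.induction_on with
    | _ q =>
      intro hr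
      rw [hτ, QuotientGroup.eq] at hr
      rw [QuotientGroup.eq_one_iff]
      rcases (hK _).mp hr with e | e
      · refine (hK q).mpr (h.x_fix _ q.2 (mul_inv_eq_iff_eq_mul.mp ?_))
        exact inv_mul_eq_one.mp e
      · exfalso
        apply h.c_ne
        have e1 : x * (q : G) * x⁻¹ = q * c := by
          have e' : (x * (q : G) * x⁻¹)⁻¹ * q = c := e
          have hcinv : c⁻¹ = c := inv_eq_of_mul_eq_one_right h.cc
          rw [← hcinv, ← e']
          group
        have hxc : x * c * x⁻¹ = c := by rw [h.x_comm, mul_inv_cancel_right]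
        have e3 : (q : G) = q * (c * c * c) := by
          have e2 : ∀ y : G, x * (y * c) * x⁻¹ = x * y * x⁻¹ * c := fun y => by
            rw [show x * (y * c) * x⁻¹ = x * y * x⁻¹ * (x * c * x⁻¹) by group, hxc]
          calc (q : G) = x ^ 3 * q * (x ^ 3)⁻¹ := by rw [h.x_cube]; group
            _ = x * (x * (x * (q : G) * x⁻¹) * x⁻¹) * x⁻¹ := by rw [pow_succ, pow_two]; group
            _ = q * c * c * c := by rw [e1, e2, e1, e2, e2, e1]
            _ = q * (c * c * c) := by group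
        rwa [h.cc, one_mul, left_eq_mul] at e3
  have hab := comm_sixteen τ h3 hfree hR
  have hcm : ∀ a b : Q, ⁅a, b⁆ ∈ Subgroup.center Q := fun a b => by
    rw [← hKZ, ← QuotientGroup.eq_one_iff, ← QuotientGroup.mk'_apply, map_commutatorElement,
      commutatorElement_eq_one_iff_mul_comm]
    exact hab _ _
  refine PGroup.isExtraspecial_of (IsPGroup.of_card (n := 5) (by rw [h.card_Q]; rfl)) hZ ?_ hcm ?_
  · by_contra hne
    push Not at hne
    have htop : Subgroup.center Q = ⊤ := (Subgroup.eq_top_iff' _).mpr fun a =>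
      Subgroup.mem_center_iff.mpr fun b => hne b a
    rw [htop, Subgroup.card_top, h.card_Q] at hZ
    omega
  · intro a
    refine Subgroup.mem_center_iff.mpr fun b => ?_
    have hk : ⁅a, b⁆ * ⁅a, b⁆ = 1 := by
      have h1 := hcm a b
      rw [← hKZ, hK] at h1
      rcases h1 with e | e <;> refine Subtype.ext ?_ <;> push_cast <;> rw [e]
      · simp
      · exact h.cc
    have hc' : ∀ w : Q, w * ⁅a, b⁆ = ⁅a, b⁆ * w := Subgroup.mem_center_iff.mp (hcm a b)
    symm
    calc a ^ 2 * b = a * (⁅a, b⁆ * b * a) := by rw [commutatorElement_def, pow_two]; group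
      _ = a * ⁅a, b⁆ * b * a := by group
      _ = ⁅a, b⁆ * (a * b) * a := by rw [hc' a]; group
      _ = ⁅a, b⁆ * (⁅a, b⁆ * b * a) * a := by rw [commutatorElement_def]; group
      _ = b * a ^ 2 := by
          rw [show ⁅a, b⁆ * (⁅a, b⁆ * b * a) * a = ⁅a, b⁆ * ⁅a, b⁆ * (b * a ^ 2) by
            rw [pow_two]; group, hk, one_mul]

/-- An element normalising `Q` and centralising `c` centralises at least half of `Q`. -/
theorem half (u : G)
    (hmod : ∀ q ∈ Q, q * u * q⁻¹ * u⁻¹ = 1 ∨ q * u * q⁻¹ * u⁻¹ = c) :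
    16 ≤ Nat.card (Q ⊓ Subgroup.centralizer ({u} : Set G) : Subgroup G) := by
  let f : Q →* G := MonoidHom.mk' (fun q => (q : G) * u * (q : G)⁻¹ * u⁻¹) fun p q => by
    have e : (p : G) * ((q : G) * u * (q : G)⁻¹ * u⁻¹) =
        ((q : G) * u * (q : G)⁻¹ * u⁻¹) * p := by
      rcases hmod q q.2 with e' | e' <;> rw [e']
      · simp
      · exact (h.c_central p p.2).symm
    calc ((p * q : Q) : G) * u * ((p * q : Q) : G)⁻¹ * u⁻¹
        = (p : G) * ((q : G) * u * (q : G)⁻¹ * u⁻¹) * u * (p : G)⁻¹ * u⁻¹ := by push_cast; group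
      _ = ((q : G) * u * (q : G)⁻¹ * u⁻¹) * ((p : G) * u * (p : G)⁻¹ * u⁻¹) := by
          rw [e]; group
      _ = ((p : G) * u * (p : G)⁻¹ * u⁻¹) * ((q : G) * u * (q : G)⁻¹ * u⁻¹) := by
          rcases hmod q q.2 with e1 | e1 <;> rcases hmod p p.2 with e2 | e2 <;>
            rw [e1, e2] <;> simp
  have hr : Nat.card f.range ≤ 2 := by
    rw [← Set.ncard_pair h.c_ne.symm]
    refine Nat.card_le_card_of_injective (fun z => (⟨(z : G), by
      obtain ⟨q, hq⟩ := z.2
      rw [← hq]; exact (hmod q q.2).imp id Set.mem_singleton_iff.mpr⟩ : ({1, c} : Set G)))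
      fun z w e => Subtype.ext (congrArg Subtype.val e :)
  have hk := Subgroup.card_mul_index f.ker
  rw [Subgroup.index_ker, h.card_Q] at hk
  have hle : Nat.card f.ker ≤ Nat.card (Q ⊓ Subgroup.centralizer ({u} : Set G) : Subgroup G) :=
    Nat.card_le_card_of_injective (fun q => (⟨((q : Q) : G), q.1.2, by
      refine Subgroup.mem_centralizer_singleton_iff.mpr ?_
      have e : ((q : Q) : G) * u * ((q : Q) : G)⁻¹ * u⁻¹ = 1 := q.2
      rw [mul_inv_eq_one, mul_inv_eq_iff_eq_mul] at e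
      exact e⟩ : (Q ⊓ Subgroup.centralizer ({u} : Set G) : Subgroup G)))
      fun z w e => Subtype.ext (Subtype.ext (congrArg Subtype.val e :))
  have h2 : Nat.card f.ker * Nat.card f.range ≤
      Nat.card f.ker * 2 := Nat.mul_le_mul_left _ hr
  omega

end Local

end CfsgLib.M12Count.CentExtra

namespace CfsgLib.M12Count

open scoped commutatorElement

variable {G : Type*} [Group G] [Finite G]

/-- A 2-subgroup of the centraliser of an element of the class of `t` of order at least 16 is a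
Sylow subgroup of it, conjugate to a given one. -/
theorem exists_conj_two {t u : G} (ht : Nat.card (Subgroup.centralizer ({t} : Set G)) = 240)
    (htu : IsConj t u) {T S : Subgroup G} (hT : Nat.card T = 16)
    (hTt : T ≤ Subgroup.centralizer ({t} : Set G)) (hS2 : IsPGroup 2 S)
    (hS : 16 ≤ Nat.card S) (hSu : S ≤ Subgroup.centralizer ({u} : Set G)) :
    ∃ g : G, g * t * g⁻¹ = u ∧ ∀ a ∈ T, g * a * g⁻¹ ∈ S := by
  haveI : Fact (Nat.Prime 2) := ⟨Nat.prime_two⟩
  obtain ⟨k, hk⟩ := isConj_iff.mp htu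
  set W := Subgroup.centralizer ({u} : Set G) with hW
  have hmap : (Subgroup.centralizer ({t} : Set G)).map (MulAut.conj k).toMonoidHom = W := by
    ext w
    constructor
    · rintro ⟨v, hv, rfl⟩
      refine Subgroup.mem_centralizer_singleton_iff.mpr ?_
      show k * v * k⁻¹ * u = u * (k * v * k⁻¹)
      have e := Subgroup.mem_centralizer_singleton_iff.mp hv
      calc k * v * k⁻¹ * u = k * (v * t) * k⁻¹ := by rw [← hk]; group
        _ = k * (t * v) * k⁻¹ := by rw [e]
        _ = u * (k * v * k⁻¹) := by rw [← hk]; group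
    · intro hw
      refine ⟨k⁻¹ * w * k, Subgroup.mem_centralizer_singleton_iff.mpr ?_, ?_⟩
      · have e := Subgroup.mem_centralizer_singleton_iff.mp hw
        calc k⁻¹ * w * k * t = k⁻¹ * (w * u) * k := by rw [← hk]; group
          _ = k⁻¹ * (u * w) * k := by rw [e]
          _ = t * (k⁻¹ * w * k) := by rw [← hk]; group
      · show k * (k⁻¹ * w * k) * k⁻¹ = w
        group
  set T1 := T.map (MulAut.conj k).toMonoidHom with hT1def
  have hT1 : Nat.card T1 = 16 := by
    rw [hT1def, Subgroup.card_map_of_injective (MulAut.conj k).injective, hT]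
  have hT1W : T1 ≤ W := hmap ▸ Subgroup.map_mono hTt
  have hW240 : Nat.card W = 240 := by
    rw [← hmap, Subgroup.card_map_of_injective (MulAut.conj k).injective, ht]
  have hval : ∀ R : Sylow 2 W, Nat.card (R : Subgroup W) = 16 := by
    intro R
    obtain ⟨n, hn⟩ := IsPGroup.iff_card.mp R.2
    have hd : 2 ^ n ∣ 240 := by
      rw [← hn, ← hW240]; exact Subgroup.card_subgroup_dvd_card _
    have h1 := R.pow_dvd_card_of_pow_dvd_card (n := 4) (by rw [hW240]; norm_num)
    rw [hn] at h1 ⊢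
    have h2 : n ≤ 4 := by
      by_contra hc
      have := (pow_dvd_pow 2 (show 5 ≤ n by omega)).trans hd
      norm_num at this
    have h3 : 4 ≤ n := Nat.pow_dvd_pow_iff_le_right (by norm_num) |>.mp h1
    rw [le_antisymm h2 h3]
    norm_num
  have hsub : ∀ R : Subgroup G, IsPGroup 2 R → 16 ≤ Nat.card R → R ≤ W →
      ∃ P : Sylow 2 W, (P : Subgroup W) = R.subgroupOf W := by
    intro R hR2 hR hRW
    have e := (Subgroup.subgroupOfEquivOfLe hRW)
    obtain ⟨P, hP⟩ := (hR2.of_equiv e.symm).exists_le_sylow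
    refine ⟨P, (Subgroup.eq_of_le_of_card_ge hP ?_).symm⟩
    rw [hval P, Nat.card_congr e.toEquiv]
    exact hR
  obtain ⟨P1, hP1⟩ := hsub T1 (IsPGroup.of_card (n := 4) (by rw [hT1]; rfl)) hT1.ge hT1W
  obtain ⟨P2, hP2⟩ := hsub S hS2 hS hSu
  obtain ⟨w, hw⟩ := MulAction.exists_smul_eq W P1 P2
  refine ⟨(w : G) * k, ?_, fun a ha => ?_⟩
  · have hwu := Subgroup.mem_centralizer_singleton_iff.mp w.2
    calc (w : G) * k * t * ((w : G) * k)⁻¹ = (w : G) * (k * t * k⁻¹) * (w : G)⁻¹ := by group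
      _ = (w : G) * u * (w : G)⁻¹ := by rw [hk]
      _ = u := by rw [hwu, mul_inv_cancel_right]
  · have hka : k * a * k⁻¹ ∈ T1 := ⟨a, ha, rfl⟩
    have h1 : (⟨k * a * k⁻¹, hT1W hka⟩ : W) ∈ (P1 : Subgroup W) := by
      rw [hP1]; exact hka
    have h2 : w * ⟨k * a * k⁻¹, hT1W hka⟩ * w⁻¹ ∈ (P2 : Subgroup W) := by
      rw [← hw]
      exact ⟨_, h1, rfl⟩
    rw [hP2] at h2
    have h3 : (w : G) * (k * a * k⁻¹) * (w : G)⁻¹ ∈ S := h2
    rwa [show (w : G) * k * a * ((w : G) * k)⁻¹ = (w : G) * (k * a * k⁻¹) * (w : G)⁻¹ by group]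

/-- The group is `M₁₂`, given `O₂` of the centraliser of `c`. -/
theorem LocalFacts.isoM12_of_core (h : Setup G) {t c : G} (hl : LocalFacts t c)
    (hQ32 : Nat.card (Cfsg.pCore 2 (Subgroup.centralizer ({c} : Set G))) = 32)
    (he : Nonempty ((Subgroup.centralizer ({c} : Set G)) ⧸
      Cfsg.pCore 2 (Subgroup.centralizer ({c} : Set G)) ≃* Equiv.Perm (Fin 3)))
    (hfix : ∀ X : Sylow 3 (Subgroup.centralizer ({c} : Set G)),
      ((Cfsg.pCore 2 (Subgroup.centralizer ({c} : Set G))).map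
          (Subgroup.centralizer ({c} : Set G)).subtype) ⊓
        Subgroup.centralizer (((X : Subgroup (Subgroup.centralizer ({c} : Set G))).map
          (Subgroup.centralizer ({c} : Set G)).subtype : Subgroup G) : Set G) =
      Subgroup.zpowers c) :
    Cfsg.Spor.IsoM12 G := by
  classical
  haveI : Fact (Nat.Prime 2) := ⟨Nat.prime_two⟩
  haveI : Fact (Nat.Prime 3) := ⟨Nat.prime_three⟩
  haveI := h.simple
  obtain ⟨e⟩ := he
  set C := Subgroup.centralizer ({c} : Set G) with hC
  set Q0 := Cfsg.pCore 2 C with hQ0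
  set Q := Q0.map C.subtype with hQ
  have hQC : ∀ q ∈ Q, q ∈ C := fun q hq => Subgroup.map_subtype_le _ hq
  have hQcard : Nat.card Q = 32 := by
    rw [hQ, Subgroup.card_map_of_injective C.subtype_injective, hQ32]
  have hnorm : ∀ u ∈ C, ∀ q ∈ Q, u * q * u⁻¹ ∈ Q := by
    rintro u hu _ ⟨q, hq, rfl⟩
    haveI : Q0.Normal := inferInstance
    exact ⟨⟨u, hu⟩ * q * ⟨u, hu⟩⁻¹, Subgroup.Normal.conj_mem inferInstance q hq ⟨u, hu⟩, rfl⟩
  have hCc : ∀ u ∈ C, u * c = c * u := fun u hu => Subgroup.mem_centralizer_singleton_iff.mp hu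
  -- an element of order three of the centraliser
  obtain ⟨X⟩ : Nonempty (Sylow 3 C) := Sylow.nonempty
  have hX : Nat.card (X : Subgroup C) = 3 := by
    obtain ⟨n, hn⟩ := IsPGroup.iff_card.mp X.2
    have hd : 3 ^ n ∣ 192 := by
      rw [← hn, ← hl.card_c]; exact Subgroup.card_subgroup_dvd_card _
    have h1 := X.pow_dvd_card_of_pow_dvd_card (n := 1) (by rw [hC, hl.card_c]; norm_num)
    rw [hn] at h1 ⊢
    rcases n with _ | _ | n
    · norm_num at h1
    · rfl
    · have := (pow_dvd_pow 3 (show 2 ≤ n + 1 + 1 by omega)).trans hd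
      norm_num at this
  haveI : IsCyclic (X : Subgroup C) := isCyclic_of_prime_card hX
  obtain ⟨x0, hx0⟩ := IsCyclic.exists_generator (α := (X : Subgroup C))
  set x : G := ((x0 : C) : G) with hxdef
  have hx3 : x ^ 3 = 1 := by
    have : x0 ^ 3 = 1 := (congrArg (x0 ^ ·) hX).symm.trans pow_card_eq_one'
    exact congrArg (fun z : (X : Subgroup C) => ((z : C) : G)) this
  have hxC : x ∈ C := (x0 : C).2
  have hcQ : c ∈ Q := (inf_le_left : _ ⊓ _ ≤ Q)
    ((hfix X).symm ▸ Subgroup.mem_zpowers c)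
  have hcc : c * c = 1 := by rw [← pow_two, ← hl.c_ord, pow_orderOf_eq_one]
  have hxfix : ∀ q ∈ Q, x * q = q * x → q = 1 ∨ q = c := by
    intro q hq hxq
    have hm : q ∈ Q ⊓ Subgroup.centralizer
        (((X : Subgroup C).map C.subtype : Subgroup G) : Set G) := by
      refine ⟨hq, Subgroup.mem_centralizer_iff.mpr ?_⟩
      rintro _ ⟨z, hz, rfl⟩
      obtain ⟨k, hk⟩ := Subgroup.mem_zpowers_iff.mp (hx0 ⟨z, hz⟩)
      have hz' : C.subtype z = x ^ k := by
        have := congrArg (fun w : (X : Subgroup C) => ((w : C) : G)) hk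
        simpa [hxdef] using this.symm
      rw [hz']
      exact (Commute.zpow_left hxq k).eq
    rw [hfix X] at hm
    obtain ⟨k, rfl⟩ := Subgroup.mem_zpowers_iff.mp hm
    rcases Int.even_or_odd k with ⟨j, rfl⟩ | ⟨j, rfl⟩
    · left; rw [← two_mul, zpow_mul, zpow_two, hcc, one_zpow]
    · right; rw [zpow_add, zpow_mul, zpow_two, hcc, one_zpow, one_mul, zpow_one]
  obtain ⟨T, b, hT, hTle, htT, hcT, hbT, hbc, hbconj, htb⟩ := hl.two_part
  have hTt : T ≤ Subgroup.centralizer ({t} : Set G) := hTle.trans inf_le_left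
  have hTC : ∀ a ∈ T, a ∈ C := fun a ha => (hTle ha).2
  have hTcomm : ∀ a ∈ T, a * t = t * a := fun a ha =>
    Subgroup.mem_centralizer_singleton_iff.mp (hTt ha)
  have htC : t ∈ C := hTC t htT
  have hQ2 : IsPGroup 2 Q := IsPGroup.of_card (n := 5) (by rw [hQcard]; rfl)
  -- the Sylow subgroup contains `C_Q(t)`
  have hcent : ∀ q ∈ Q, q * t = t * q → q ∈ T := by
    intro q hq hqt
    set S := Q ⊓ Subgroup.centralizer ({t} : Set G)
    have hTS : T ≤ Subgroup.normalizer (S : Set G) := fun a ha => by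
      refine Subgroup.mem_normalizer_fintype fun z hz => ?_
      exact ⟨hnorm a (hTC a ha) z hz.1, Subgroup.mul_mem _ (Subgroup.mul_mem _ (hTt ha) hz.2)
        (Subgroup.inv_mem _ (hTt ha))⟩
    have hW2 : IsPGroup 2 (T ⊔ S : Subgroup G) :=
      IsPGroup.to_sup_of_normal_right' (IsPGroup.of_card (n := 4) (by rw [hT]; rfl))
        (hQ2.to_le inf_le_left) hTS
    have hWt : T ⊔ S ≤ Subgroup.centralizer ({t} : Set G) := sup_le hTt inf_le_right
    obtain ⟨n, hn⟩ := IsPGroup.iff_card.mp hW2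
    have hd : 2 ^ n ∣ 240 := by rw [← hn, ← hl.card_t]; exact Subgroup.card_dvd_of_le hWt
    have hn4 : n ≤ 4 := by
      by_contra hc'
      have := (pow_dvd_pow 2 (show 5 ≤ n by omega)).trans hd
      norm_num at this
    have hTW : T = T ⊔ S := Subgroup.eq_of_le_of_card_ge le_sup_left (by
      rw [hn, hT]
      exact (Nat.pow_le_pow_right (by norm_num) hn4).trans (le_of_eq (by norm_num)))
    rw [hTW]
    exact Subgroup.mem_sup_right ⟨hq, Subgroup.mem_centralizer_singleton_iff.mpr hqt⟩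
  -- modulo `O₂` the subgroup has order at most two
  have hmemQ : ∀ u : C, (u : G) ∈ Q ↔ e (u : C ⧸ Q0) = 1 := fun u => by
    rw [map_eq_one_iff _ e.injective, QuotientGroup.eq_one_iff]
    exact ⟨fun ⟨v, hv, hvu⟩ => (Subtype.ext hvu : v = u) ▸ hv, fun hu => ⟨u, hu, rfl⟩⟩
  have houter : t ∉ Q → ∀ a ∈ T, a ∈ Q ∨ a * t ∈ Q := by
    intro htQ a ha
    set π : C →* Equiv.Perm (Fin 3) := e.toMonoidHom.comp (QuotientGroup.mk' Q0) with hπ
    set P := (T.subgroupOf C).map π
    have hP : Nat.card P ≤ 2 := by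
      have h1 : Nat.card P ∣ 16 := by
        rw [← hT, ← Nat.card_congr (Subgroup.subgroupOfEquivOfLe (show T ≤ C from hTC)).toEquiv]
        exact Subgroup.card_map_dvd _ π
      have h2 : Nat.card P ∣ 6 := by
        have := Subgroup.card_subgroup_dvd_card P
        rwa [Nat.card_perm, Nat.card_fin] at this
      exact Nat.le_of_dvd (by norm_num) ((Nat.dvd_gcd h1 h2).trans (by norm_num))
    have hmP : ∀ (u : C), (u : G) ∈ T → π u ∈ P := fun u hu => ⟨u, hu, rfl⟩
    have ht1 : π ⟨t, htC⟩ ≠ 1 := fun e' => htQ ((hmemQ ⟨t, htC⟩).mpr e')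
    by_cases ha1 : π ⟨a, hTC a ha⟩ = 1
    · exact Or.inl ((hmemQ ⟨a, hTC a ha⟩).mpr ha1)
    · refine Or.inr ((hmemQ ⟨a * t, mul_mem (hTC a ha) htC⟩).mpr ?_)
      show π (⟨a, hTC a ha⟩ * ⟨t, htC⟩) = 1
      have hPcard : Nat.card P = 2 := by
        have h0 : 1 < Nat.card P := Finite.one_lt_card_iff_nontrivial.mpr
          ⟨⟨⟨π ⟨t, htC⟩, hmP _ htT⟩, 1, fun e' => ht1 (congrArg Subtype.val e')⟩⟩
        omega
      obtain ⟨y, -, huniq⟩ := (Nat.card_eq_two_iff' (1 : P)).mp hPcard
      have e1 := huniq ⟨_, hmP ⟨a, hTC a ha⟩ ha⟩ fun e' => ha1 (congrArg Subtype.val e')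
      have e2 := huniq ⟨_, hmP ⟨t, htC⟩ htT⟩ fun e' => ht1 (congrArg Subtype.val e')
      have e3 : π ⟨a, hTC a ha⟩ = π ⟨t, htC⟩ := congrArg Subtype.val (e1.trans e2.symm)
      rw [map_mul, e3, ← map_mul,
        show (⟨t, htC⟩ : C) * ⟨t, htC⟩ = 1 from Subtype.ext (by
          show t * t = 1
          rw [← pow_two, ← hl.t_ord, pow_orderOf_eq_one]), map_one]
  have htt : t * t = 1 := by rw [← pow_two, ← hl.t_ord, pow_orderOf_eq_one]
  have hnab : ∃ a ∈ T, ∃ d ∈ T, a * d ≠ d * a := by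
    by_contra hne
    push Not at hne
    have h1 : ⁅T, T⁆ = ⊥ := (Subgroup.eq_bot_iff_forall _).mpr fun z hz => by
      have : ⁅T, T⁆ ≤ ⊥ := Subgroup.commutator_le.mpr fun u hu v hv =>
        Subgroup.mem_bot.mpr (commutatorElement_eq_one_iff_mul_comm.mpr (hne u hu v hv))
      exact Subgroup.mem_bot.mp (this hz)
    rw [h1, Subgroup.mem_bot] at hcT
    have hc2 := hl.c_ord
    rw [hcT, orderOf_one] at hc2
    omega
  have hloc : CentExtra.Local Q T c t x :=
    ⟨hQcard, hl.c_ord, hcQ, fun q hq => (hCc q (hQC q hq)).symm, hx3, hnorm x hxC, hCc x hxC,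
      hxfix, htt, hnorm t htC, hT, htT, hTcomm, hcent, hnab, houter⟩
  have hex := hloc.isExtraspecial
  -- elements acting on `Q` and centralising `c` centralise half of it modulo `c`
  have hmod : ∀ u ∈ Q, ∀ q ∈ Q, q * u * q⁻¹ * u⁻¹ = 1 ∨ q * u * q⁻¹ * u⁻¹ = c := by
    intro u hu q hq
    have hcm : commutator Q = Subgroup.center Q := hex.1.2.2
    have h1 : (⁅(⟨q, hq⟩ : Q), (⟨u, hu⟩ : Q)⁆ : Q) ∈ Subgroup.center Q := by
      rw [← hcm]; exact Subgroup.commutator_mem_commutator (Subgroup.mem_top _) (Subgroup.mem_top _)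
    obtain ⟨y, -, huniq⟩ := (Nat.card_eq_two_iff' (1 : Subgroup.center Q)).mp hex.2
    by_cases h2 : q * u * q⁻¹ * u⁻¹ = 1
    · exact Or.inl h2
    · refine Or.inr ?_
      have e1 := huniq ⟨_, h1⟩ fun e' => h2 (congrArg
        (fun z : Subgroup.center Q => ((z : Q) : G)) e')
      have hcZ : (⟨c, hcQ⟩ : Q) ∈ Subgroup.center Q := Subgroup.mem_center_iff.mpr fun z =>
        Subtype.ext (hCc z (hQC z z.2))
      have e2 := huniq ⟨_, hcZ⟩ fun e' => by
        have : c = 1 := congrArg (fun z : Subgroup.center Q => ((z : Q) : G)) e'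
        have hc2 := hl.c_ord
        rw [this, orderOf_one] at hc2
        omega
      exact congrArg (fun z : Subgroup.center Q => ((z : Q) : G)) (e1.trans e2.symm)
  have hnwc : ∃ g : G, g * c * g⁻¹ ∈ Q ∧ g * c * g⁻¹ ≠ c := by
    obtain ⟨k, hk⟩ := isConj_iff.mp hbconj.symm
    by_cases hbQ : b ∈ Q
    · exact ⟨k, hk.symm ▸ hbQ, hk.symm ▸ hbc⟩
    have htQ : t ∉ Q := by
      intro htQ
      have h16 := hloc.half t (hmod t htQ)
      have hle : Q ⊓ Subgroup.centralizer ({t} : Set G) ≤ T := fun q hq =>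
        hcent q hq.1 (Subgroup.mem_centralizer_singleton_iff.mp hq.2)
      have := Subgroup.eq_of_le_of_card_ge hle (hT.le.trans h16)
      exact hbQ ((this.ge hbT).1)
    have hbtQ : b * t ∈ Q := (houter htQ b hbT).resolve_left hbQ
    have hu : IsConj t (b * t) := by rw [hTcomm b hbT]; exact htb.symm
    obtain ⟨g, hg, hgT⟩ := exists_conj_two hl.card_t hu hT hTt (hQ2.to_le inf_le_left)
      (hloc.half (b * t) (hmod _ hbtQ)) inf_le_right
    have hcT' : c ∈ T := Subgroup.commutator_le_self T hcT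
    by_cases hgc : g * c * g⁻¹ = c
    · refine ⟨g * k, ?_, ?_⟩
      · rw [show g * k * c * (g * k)⁻¹ = g * (k * c * k⁻¹) * g⁻¹ by group, hk]
        exact (hgT b hbT).1
      · rw [show g * k * c * (g * k)⁻¹ = g * (k * c * k⁻¹) * g⁻¹ by group, hk]
        intro e'
        exact hbc (mul_left_cancel (mul_right_cancel (e'.trans hgc.symm)))
    · exact ⟨g, (hgT c hcT').1, hgc⟩
  rcases Cfsg.Agent.S3344.result c hl.c_ord C rfl Q rfl hex hQcard e X (hfix X) hnwc with
    ⟨N, hN, -, -, h8, -⟩ | ⟨⟨f⟩⟩ | ⟨⟨f⟩⟩ | hiso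
  · exfalso
    rcases hN.eq_bot_or_eq_top with e' | e' <;> rw [e'] at h8
    · rw [Subgroup.card_bot] at h8; omega
    · rw [Subgroup.card_top, h.hyp.card] at h8; omega
  · exfalso
    have := Nat.card_congr f.toEquiv
    rw [h.hyp.card, nat_card_alternatingGroup, Nat.card_fin] at this
    norm_num [Nat.factorial] at this
  · exfalso
    have := Nat.card_congr f.toEquiv
    rw [h.hyp.card, nat_card_alternatingGroup, Nat.card_fin] at this
    norm_num [Nat.factorial] at this
  · exact hiso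

end CfsgLib.M12Count
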