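/-!
Transversal words and element orders for counting the element orders of the Mathieu group of
degree 12. Words refer to the ten tables of `CfsgLib.Mathieu.chain12`, in their order.
-/

set_option autoImplicit false

namespace CfsgLib.M12Count

/-- Transversal words for base point 2. -/
def transW2 : List (List Nat) := [[], [3, 7, 3], [7, 3, 3], [5, 3, 3], [3, 3], [7, 5, 3], [7, 3], [5, 3], [3], [3, 3, 3]]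

/-- Transversal words for base point 3. -/
def transW3 : List (List Nat) := [[], [7, 7, 5], [9, 5], [7, 5], [9, 7, 7, 5], [5], [7, 9, 5], [7, 7, 7, 5], [9, 7, 5]]

/-- Transversal words for base point 4. -/
def transW4 : List (List Nat) := [[], [9, 7, 7], [7, 7, 7], [9], [7, 7], [9, 7], [7], [7, 9]]

/-- A word mapping the first two base points to their images in case A. -/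
def pairWA : List Nat := []

/-- A word mapping the first two base points to their images in case B. -/
def pairWB : List Nat := [0, 0, 0]

/-- A word mapping the first two base points to their images in case C. -/
def pairWC : List Nat := [1, 3, 7, 1]

/-- A word mapping the first two base points to their images in case D. -/
def pairWD : List Nat := [3, 1, 3, 1]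

/-- The element orders in case A. -/
def ordsA : List Nat :=
  [1, 4, 4, 4, 2, 4, 4, 4, 3, 4, 4, 4, 2, 4, 4, 4, 4, 2, 4, 3, 4, 4, 4, 4, 4, 4, 2, 4, 4, 4,
   3, 4, 4, 3, 4, 2, 4, 4, 4, 4, 2, 4, 4, 4, 3, 4, 4, 4, 4, 4, 4, 4, 4, 2, 4, 3, 4, 4, 3, 4,
   4, 4, 2, 4, 4, 4, 4, 4, 4, 3, 4, 2, 8, 8, 2, 8, 8, 2, 2, 2, 8, 8, 5, 4, 4, 4, 5, 3, 8, 4,
   3, 8, 4, 5, 4, 5, 4, 5, 8, 5, 3, 4, 4, 8, 4, 8, 4, 4, 8, 5, 3, 5, 4, 4, 5, 8, 8, 3, 5, 4,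
   5, 3, 8, 4, 5, 8, 4, 4, 3, 5, 4, 5, 4, 8, 8, 4, 5, 4, 4, 3, 5, 4, 8, 8, 8, 4, 5, 4, 8, 5,
   5, 2, 4, 4, 3, 4, 4, 4, 2, 4, 8, 8, 5, 4, 4, 3, 3, 5, 5, 5, 4, 3, 3, 4, 8, 8, 8, 8, 3, 8,
   8, 2, 3, 4, 4, 8, 5, 8, 8, 4, 4, 5, 2, 5, 8, 5, 5, 4, 8, 4, 5, 4, 8, 5, 4, 4, 8, 8, 5, 4,
   4, 3, 5, 4, 8, 8, 5, 3, 8, 5, 3, 4, 4, 8, 5, 5, 4, 4, 4, 8, 8, 8, 2, 4, 4, 4, 3, 4, 4, 4,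
   8, 4, 2, 4, 8, 5, 5, 5, 5, 3, 4, 5, 3, 4, 8, 8, 5, 5, 4, 5, 2, 8, 4, 8, 4, 8, 4, 8, 8, 5,
   5, 4, 8, 8, 3, 8, 8, 2, 3, 4, 4, 4, 4, 8, 8, 5, 3, 5, 5, 5, 8, 2, 5, 4, 8, 4, 3, 4, 4, 4,
   2, 4, 4, 4, 5, 3, 4, 5, 3, 4, 8, 8, 4, 4, 3, 8, 8, 3, 5, 5, 3, 2, 8, 4, 3, 8, 8, 8, 5, 4,
   8, 5, 4, 8, 4, 8, 8, 4, 5, 4, 8, 5, 2, 5, 8, 4, 4, 8, 8, 5, 5, 4, 4, 4, 5, 8, 8, 3, 5, 4,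
   8, 4, 4, 8, 8, 4, 5, 5, 4, 4, 4, 4, 4, 3, 4, 2, 4, 8, 5, 4, 8, 3, 3, 5, 3, 3, 4, 5, 5, 8,
   8, 4, 4, 4, 4, 8, 8, 5, 3, 5, 4, 8, 5, 8, 4, 5, 2, 5, 4, 5, 8, 4, 5, 4, 8, 8, 2, 5, 8, 5,
   5, 4, 8, 4, 4, 3, 8, 3, 2, 8, 8, 8, 4, 8, 5, 8, 8, 4, 4, 5, 8, 4, 5, 4, 8, 5, 2, 5, 4, 8,
   5, 4, 8, 5, 3, 3, 4, 5, 8, 4, 5, 8, 8, 4, 8, 8, 4, 4, 4, 5, 3, 5, 4, 4, 4, 4, 4, 2, 4, 3,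
   5, 5, 4, 3, 3, 4, 8, 8, 3, 2, 8, 4, 3, 8, 8, 8, 5, 5, 8, 2, 5, 4, 8, 4, 4, 4, 8, 5, 5, 8,
   8, 4, 4, 3, 4, 2, 4, 4, 4, 4, 5, 3, 8, 5, 3, 4, 4, 8, 4, 8, 5, 4, 8, 5, 3, 3, 4, 5, 8, 5,
   3, 8, 4, 4, 5, 5, 4, 5, 2, 8, 4, 8, 8, 4, 5, 8, 8, 4, 4, 5, 8, 4, 5, 4, 8, 5, 2, 5, 8, 8,
   2, 8, 8, 3, 4, 3, 5, 4, 8, 5, 4, 8, 4, 8, 5, 5, 8, 5, 2, 4, 8, 4, 5, 5, 8, 3, 3, 4, 4, 8,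
   8, 8, 5, 4, 8, 4, 4, 5, 4, 5, 4, 5, 3, 4, 8, 8, 4, 2, 4, 3, 4, 4, 4, 4, 4, 4, 3, 8, 8, 3,
   5, 5, 8, 8, 3, 8, 8, 4, 3, 2, 8, 4, 5, 4, 8, 2, 5, 5, 5, 2, 8, 5, 5, 4, 8, 4, 4, 3, 8, 3,
   2, 8, 8, 8, 4, 3, 4, 2, 4, 4, 4, 4, 8, 4, 3, 8, 4, 5, 4, 5, 5, 5, 8, 4, 4, 4, 8, 8, 5, 5,
   4, 3, 3, 8, 8, 4, 8, 4, 3, 8, 4, 5, 5, 3, 4, 8, 5, 8, 4, 2, 5, 5, 8, 8, 5, 8, 4, 5, 4, 4]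

/-- The element orders in case B. -/
def ordsB : List Nat :=
  [5, 4, 4, 8, 5, 3, 8, 4, 11, 11, 5, 8, 8, 5, 6, 4, 5, 3, 8, 11, 8, 5, 11, 11, 4, 11, 8, 8, 8, 11,
   6, 6, 3, 11, 5, 5, 11, 11, 8, 8, 6, 5, 5, 11, 4, 6, 11, 5, 6, 5, 6, 3, 11, 6, 4, 11, 6, 8, 5, 5,
   6, 5, 8, 5, 11, 8, 6, 11, 6, 4, 8, 8, 11, 4, 8, 5, 8, 5, 11, 6, 5, 11, 5, 8, 6, 11, 4, 8, 11, 6,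
   11, 5, 8, 4, 8, 5, 3, 3, 3, 6, 6, 6, 6, 3, 8, 4, 8, 5, 11, 6, 11, 5, 8, 6, 11, 5, 11, 5, 8, 4,
   11, 6, 8, 5, 8, 5, 11, 4, 11, 5, 11, 6, 8, 5, 8, 4, 5, 11, 5, 8, 4, 11, 6, 8, 8, 6, 6, 6, 8, 8,
   2, 8, 8, 2, 2, 2, 8, 8, 2, 8, 6, 8, 8, 8, 6, 6, 8, 2, 2, 8, 8, 8, 6, 6, 8, 6, 6, 8, 8, 8,
   2, 6, 8, 6, 8, 6, 2, 6, 8, 8, 6, 8, 8, 6, 2, 6, 8, 8, 6, 8, 6, 8, 8, 8, 6, 2, 8, 6, 8, 6,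
   2, 6, 8, 8, 6, 8, 4, 11, 11, 6, 6, 3, 6, 5, 5, 11, 11, 3, 8, 5, 8, 11, 5, 8, 8, 4, 5, 3, 4, 4,
   5, 11, 3, 8, 8, 11, 11, 5, 8, 6, 11, 8, 4, 11, 8, 6, 5, 6, 5, 4, 11, 11, 6, 5, 6, 4, 8, 5, 5, 8,
   11, 11, 8, 8, 11, 4, 11, 8, 6, 6, 6, 8, 5, 5, 6, 5, 8, 5, 8, 8, 3, 11, 5, 11, 11, 5, 3, 8, 8, 4,
   4, 5, 4, 5, 8, 11, 6, 8, 4, 11, 8, 6, 5, 8, 5, 5, 5, 6, 8, 6, 5, 6, 6, 11, 3, 6, 11, 4, 11, 11,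
   5, 5, 8, 3, 8, 11, 11, 8, 5, 11, 8, 4, 6, 5, 11, 4, 5, 6, 5, 11, 6, 5, 8, 6, 8, 8, 4, 6, 11, 11,
   11, 11, 8, 3, 5, 5, 11, 8, 5, 4, 8, 8, 5, 4, 4, 3, 11, 8, 11, 6, 6, 4, 8, 8, 6, 8, 8, 5, 6, 5,
   5, 5, 6, 11, 6, 6, 4, 3, 11, 5, 3, 8, 11, 5, 11, 8, 5, 11, 4, 6, 8, 5, 5, 8, 11, 11, 11, 6, 4, 5,
   5, 5, 6, 11, 6, 11, 6, 8, 11, 4, 8, 8, 11, 3, 4, 5, 6, 11, 6, 6, 11, 8, 6, 11, 6, 4, 8, 8, 5, 8,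
   11, 11, 11, 8, 3, 5, 5, 8, 8, 5, 5, 6, 5, 6, 11, 6, 6, 5, 5, 11, 4, 5, 3, 4, 8, 8, 4, 5, 4, 5,
   11, 11, 11, 3, 5, 8, 8, 5, 8, 11, 4, 8, 11, 5, 5, 6, 8, 6, 8, 11, 6, 11, 4, 8, 11, 11, 4, 6, 8, 8,
   8, 6, 4, 4, 5, 3, 8, 8, 5, 4, 4, 6, 8, 5, 5, 8, 11, 11, 4, 11, 5, 5, 6, 6, 11, 5, 8, 11, 11, 8,
   5, 11, 3, 5, 3, 6, 6, 11, 5, 4, 11, 6, 5, 5, 8, 8, 5, 6, 5, 6, 8, 6, 4, 11, 6, 8, 8, 11, 5, 3,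
   11, 11, 8, 11, 8, 5, 6, 8, 8, 6, 11, 4, 11, 8, 5, 8, 8, 5, 5, 6, 5, 6, 8, 11, 5, 8, 11, 4, 6, 5,
   6, 3, 4, 5, 11, 6, 6, 11, 11, 8, 5, 5, 3, 8, 11, 11, 4, 5, 4, 5, 8, 8, 3, 4, 11, 5, 4, 6, 5, 11,
   6, 5, 5, 11, 3, 8, 8, 11, 11, 5, 8, 11, 8, 6, 11, 8, 4, 6, 4, 5, 11, 6, 5, 8, 8, 11, 5, 6, 5, 6,
   8, 8, 5, 5, 4, 3, 5, 4, 8, 8, 5, 4, 11, 6, 8, 8, 6, 4, 11, 8, 5, 6, 4, 5, 11, 11, 6, 5, 6, 3,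
   6, 5, 11, 11, 4, 6, 8, 6, 8, 8, 4, 6, 11, 11, 8, 3, 11, 11, 5, 5, 8, 11, 11, 3, 11, 11, 5, 5, 8, 8]

/-- The element orders in case C. -/
def ordsC : List Nat :=
  [8, 8, 6, 8, 8, 6, 2, 6, 8, 8, 2, 8, 8, 6, 6, 6, 8, 8, 6, 8, 8, 6, 2, 6, 6, 6, 8, 2, 6, 8,
   8, 8, 8, 8, 6, 8, 8, 2, 6, 6, 8, 8, 6, 8, 8, 6, 6, 2, 6, 6, 8, 2, 6, 8, 8, 8, 6, 6, 8, 2,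
   6, 8, 8, 8, 2, 2, 8, 2, 2, 8, 8, 8, 6, 6, 10, 4, 6, 10, 8, 8, 6, 6, 8, 2, 6, 8, 8, 8, 4, 6,
   8, 4, 6, 10, 10, 8, 10, 8, 6, 2, 10, 6, 6, 6, 6, 6, 10, 4, 4, 8, 8, 10, 6, 4, 10, 2, 6, 10, 10, 10,
   8, 10, 4, 2, 8, 6, 4, 6, 8, 10, 6, 2, 8, 4, 6, 4, 10, 8, 6, 2, 10, 6, 6, 6, 6, 6, 10, 6, 6, 2,
   10, 8, 6, 6, 2, 6, 6, 10, 8, 10, 6, 6, 8, 4, 4, 10, 10, 8, 8, 8, 6, 8, 8, 2, 6, 6, 4, 6, 8, 6,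
   4, 10, 8, 2, 6, 2, 10, 4, 6, 10, 10, 10, 10, 8, 4, 8, 2, 6, 4, 6, 10, 8, 6, 10, 8, 4, 4, 6, 8, 8,
   4, 10, 10, 6, 6, 6, 2, 10, 6, 10, 8, 6, 6, 6, 10, 8, 6, 2, 10, 6, 6, 6, 10, 10, 6, 8, 8, 4, 4, 6,
   2, 6, 8, 6, 6, 8, 8, 8, 10, 8, 6, 8, 2, 4, 6, 4, 10, 10, 2, 10, 10, 6, 4, 6, 6, 4, 8, 4, 6, 2,
   8, 10, 4, 4, 8, 6, 6, 8, 10, 10, 6, 6, 8, 4, 6, 10, 10, 8, 10, 8, 6, 2, 10, 6, 6, 6, 10, 8, 4, 8,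
   2, 6, 4, 6, 10, 10, 6, 10, 10, 4, 6, 2, 4, 6, 10, 4, 6, 10, 8, 8, 10, 2, 6, 8, 10, 6, 6, 6, 10, 8,
   6, 10, 8, 4, 4, 6, 6, 4, 10, 4, 6, 8, 2, 8, 2, 6, 8, 6, 6, 8, 8, 8, 6, 4, 8, 6, 6, 10, 10, 8,
   6, 6, 8, 4, 4, 10, 10, 8, 6, 6, 2, 6, 6, 10, 8, 10, 4, 4, 10, 6, 6, 10, 8, 8, 8, 8, 6, 8, 8, 6,
   2, 6, 6, 4, 10, 6, 6, 10, 8, 8, 4, 6, 8, 6, 4, 10, 8, 2, 10, 10, 6, 10, 10, 2, 6, 4, 10, 8, 6, 2,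
   10, 6, 6, 6, 8, 2, 6, 10, 8, 4, 6, 4, 4, 6, 8, 6, 4, 10, 8, 2, 4, 6, 10, 6, 2, 10, 10, 10, 6, 6,
   2, 6, 6, 10, 8, 10, 2, 10, 6, 10, 8, 6, 6, 6, 6, 4, 8, 6, 6, 10, 10, 8, 4, 4, 10, 6, 6, 10, 8, 8,
   8, 10, 6, 2, 8, 4, 6, 4, 10, 8, 6, 10, 8, 6, 4, 4, 8, 8, 6, 8, 8, 2, 6, 6, 10, 8, 6, 8, 2, 4,
   6, 4, 10, 10, 6, 10, 10, 2, 6, 4, 10, 8, 6, 2, 10, 6, 6, 6, 6, 6, 10, 6, 6, 8, 10, 2, 10, 10, 4, 8,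
   8, 6, 6, 6, 10, 8, 4, 10, 8, 6, 6, 4, 4, 6, 10, 6, 4, 8, 2, 8, 6, 4, 8, 6, 4, 8, 10, 10, 2, 6,
   8, 6, 6, 8, 8, 8, 10, 10, 6, 8, 8, 4, 4, 6, 10, 8, 6, 2, 10, 6, 6, 6, 10, 8, 4, 10, 8, 6, 6, 4,
   6, 2, 8, 6, 6, 8, 8, 8, 10, 8, 4, 10, 8, 6, 6, 6, 10, 8, 6, 8, 2, 4, 6, 4, 2, 6, 10, 6, 4, 10,
   10, 10, 6, 6, 8, 6, 6, 10, 2, 10, 4, 6, 2, 6, 4, 8, 10, 8, 10, 10, 4, 8, 8, 6, 6, 6, 8, 8, 4, 10,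
   10, 6, 6, 6, 8, 10, 6, 8, 10, 6, 6, 4, 2, 4, 2, 4, 2, 2, 2, 2, 8, 8, 6, 10, 10, 6, 6, 4, 8, 10,
   4, 8, 10, 6, 6, 6, 6, 6, 8, 4, 6, 10, 10, 8, 6, 6, 10, 6, 4, 8, 8, 10, 6, 4, 8, 6, 6, 10, 10, 8]

/-- The element orders in case D. -/
def ordsD : List Nat :=
  [5, 6, 5, 6, 8, 8, 8, 8, 5, 8, 10, 11, 8, 11, 6, 11, 11, 6, 6, 5, 11, 8, 8, 10, 5, 11, 6, 11, 8, 11,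
   10, 8, 8, 10, 8, 6, 8, 10, 6, 6, 6, 11, 6, 6, 4, 6, 5, 11, 8, 5, 8, 6, 11, 4, 11, 5, 4, 11, 10, 6,
   10, 6, 8, 11, 11, 8, 8, 4, 8, 10, 11, 8, 8, 11, 10, 11, 5, 11, 6, 8, 6, 8, 10, 6, 10, 8, 6, 8, 6, 5,
   6, 6, 11, 6, 11, 4, 10, 6, 10, 11, 8, 6, 4, 11, 8, 8, 11, 4, 11, 10, 8, 8, 5, 8, 4, 11, 6, 8, 5, 11,
   11, 5, 6, 6, 11, 10, 8, 8, 8, 6, 8, 6, 5, 8, 5, 8, 11, 8, 11, 5, 8, 6, 11, 10, 11, 4, 11, 5, 8, 5,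
   8, 6, 8, 6, 8, 10, 8, 10, 6, 6, 8, 6, 10, 11, 10, 11, 4, 6, 6, 6, 11, 5, 11, 6, 6, 4, 5, 8, 6, 11,
   8, 11, 10, 11, 8, 10, 11, 6, 11, 8, 11, 5, 5, 8, 5, 8, 8, 6, 8, 6, 6, 10, 11, 8, 8, 5, 11, 6, 8, 8,
   8, 11, 4, 8, 10, 11, 6, 3, 3, 6, 3, 6, 6, 3, 6, 3, 3, 6, 3, 6, 6, 3, 3, 3, 6, 6, 6, 6, 3, 3,
   3, 3, 3, 6, 6, 3, 6, 6, 6, 6, 3, 3, 3, 3, 6, 6, 3, 6, 6, 3, 6, 3, 3, 6, 6, 3, 6, 6, 3, 3,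
   3, 6, 6, 6, 6, 3, 3, 6, 3, 3, 3, 6, 3, 3, 6, 6, 6, 3, 6, 11, 8, 11, 5, 6, 10, 8, 6, 6, 6, 11,
   4, 11, 5, 6, 11, 10, 11, 6, 8, 5, 11, 8, 8, 11, 10, 8, 4, 8, 8, 11, 11, 8, 11, 5, 8, 6, 11, 10, 5, 8,
   5, 11, 4, 11, 6, 8, 6, 6, 8, 10, 8, 10, 8, 6, 10, 11, 8, 6, 4, 6, 10, 11, 8, 5, 6, 8, 8, 8, 6, 5,
   8, 6, 6, 10, 8, 10, 8, 6, 11, 8, 8, 10, 8, 4, 11, 8, 6, 6, 5, 11, 4, 6, 6, 11, 11, 8, 11, 5, 11, 6,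
   8, 10, 10, 6, 4, 11, 8, 11, 10, 6, 8, 5, 11, 8, 11, 6, 11, 10, 5, 8, 5, 8, 8, 6, 8, 6, 11, 5, 8, 6,
   8, 5, 11, 4, 8, 8, 6, 6, 10, 11, 5, 11, 4, 11, 10, 6, 10, 6, 8, 11, 8, 8, 5, 8, 5, 6, 8, 6, 6, 10,
   8, 6, 8, 6, 8, 10, 5, 11, 10, 11, 6, 6, 8, 8, 6, 6, 6, 5, 11, 4, 11, 6, 5, 11, 6, 11, 8, 11, 10, 8,
   8, 5, 11, 4, 11, 5, 8, 6, 8, 11, 8, 8, 10, 11, 4, 8, 8, 8, 11, 5, 11, 6, 11, 10, 11, 8, 8, 10, 11, 6,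
   6, 5, 6, 6, 11, 5, 8, 8, 11, 10, 8, 11, 6, 11, 10, 8, 5, 6, 8, 5, 11, 6, 6, 8, 11, 10, 5, 8, 10, 6,
   6, 11, 8, 11, 6, 5, 11, 6, 8, 10, 11, 8, 8, 11, 5, 11, 10, 8, 6, 6, 8, 4, 8, 4, 8, 4, 8, 4, 5, 8,
   8, 6, 6, 11, 10, 11, 5, 8, 5, 11, 6, 11, 4, 8, 10, 11, 10, 6, 4, 11, 8, 6, 11, 8, 11, 5, 11, 6, 8, 10,
   5, 6, 8, 6, 8, 8, 5, 8, 8, 10, 8, 6, 6, 10, 8, 6, 6, 11, 8, 11, 10, 11, 5, 8, 11, 5, 8, 6, 11, 8,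
   6, 10, 8, 8, 4, 11, 10, 11, 8, 8, 11, 6, 11, 4, 6, 5, 6, 6, 6, 6, 11, 5, 11, 6, 6, 4, 11, 6, 8, 5,
   8, 4, 11, 5, 4, 11, 8, 6, 10, 11, 10, 6, 11, 5, 11, 8, 8, 6, 11, 10, 10, 8, 10, 6, 6, 8, 6, 8, 6, 10,
   11, 8, 8, 5, 11, 6, 8, 11, 4, 8, 10, 8, 8, 11, 6, 8, 8, 5, 6, 5, 8, 8, 10, 11, 8, 8, 6, 11, 5, 11]

end CfsgLib.M12Count
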